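import Cfsg.Agent.H533.T5.Defs

/-!
# Tools for the weak rows

* `commute_all_contra`: in an almost simple group, `c` cannot commute with all `S`-conjugates of
  `d`.
* `WRow.of_sylow_comm`: the row holds when a Sylow `p`-subgroup of `MulAut S` is commutative.
* `WRow.of_inner`: reduction to pairs of elements of `S` when all automorphisms of order `p` are
  inner.
* `wpair_of_sylow_comm`, `wpair_of_count`: pairs in `S`.
-/

set_option autoImplicit false

namespace Cfsg.Agent.H533.T5

variable {G : Type*} [Group G]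

theorem commute_all_contra (S : Subgroup G) [S.Normal] (hS : IsSimpleGroup S)
    (hC : Subgroup.centralizer (S : Set G) = ⊥) {c d : G} (hc : c ≠ 1) (hd : d ≠ 1)
    (h : ∀ g ∈ S, Commute c (g * d * g⁻¹)) : False := by
  classical
  let X : Set G := {x | ∃ g ∈ S, x = g * d * g⁻¹ * d⁻¹}
  let N : Subgroup G := Subgroup.closure X
  have hXS : X ⊆ S := by
    rintro x ⟨g, hg, rfl⟩
    have : g * d * g⁻¹ * d⁻¹ = g * (d * g⁻¹ * d⁻¹) := by group
    rw [this]
    exact mul_mem hg (‹S.Normal›.conj_mem _ (inv_mem hg) d)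
  have hNS : N ≤ S := (Subgroup.closure_le S).mpr hXS
  have hconj : ∀ s ∈ S, ∀ x ∈ N, s * x * s⁻¹ ∈ N := by
    intro s hs x hx
    induction hx using Subgroup.closure_induction with
    | mem x hx =>
      obtain ⟨g, hg, rfl⟩ := hx
      have h1 : s * (g * d * g⁻¹ * d⁻¹) * s⁻¹
          = ((s * g) * d * (s * g)⁻¹ * d⁻¹) * (s * d * s⁻¹ * d⁻¹)⁻¹ := by group
      rw [h1]
      exact mul_mem (Subgroup.subset_closure ⟨s * g, mul_mem hs hg, rfl⟩)
        (inv_mem (Subgroup.subset_closure ⟨s, hs, rfl⟩))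
    | one => simp
    | mul x y _ _ hx hy =>
      have : s * (x * y) * s⁻¹ = (s * x * s⁻¹) * (s * y * s⁻¹) := by group
      rw [this]; exact mul_mem hx hy
    | inv x _ hx =>
      have : s * x⁻¹ * s⁻¹ = (s * x * s⁻¹)⁻¹ := by group
      rw [this]; exact inv_mem hx
  have hnorm : (N.subgroupOf S).Normal := by
    constructor
    rintro ⟨x, hxS⟩ hx ⟨s, hs⟩
    rw [Subgroup.mem_subgroupOf] at hx ⊢
    exact hconj s hs x hx
  have hcN : ∀ x ∈ N, Commute c x := by
    intro x hx
    induction hx using Subgroup.closure_induction with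
    | mem x hx =>
      obtain ⟨g, hg, rfl⟩ := hx
      have h1 : Commute c d := by simpa using h 1 (one_mem S)
      exact (h g hg).mul_right h1.inv_right
    | one => exact Commute.one_right c
    | mul x y _ _ hx hy => exact hx.mul_right hy
    | inv x _ hx => exact hx.inv_right
  rcases hnorm.eq_bot_or_eq_top with hb | ht
  · apply hd
    have : d ∈ Subgroup.centralizer (S : Set G) := by
      rw [Subgroup.mem_centralizer_iff]
      intro g hg
      have h1 : g * d * g⁻¹ * d⁻¹ ∈ N := Subgroup.subset_closure ⟨g, hg, rfl⟩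
      have h2 : (⟨g * d * g⁻¹ * d⁻¹, hNS h1⟩ : S) ∈ N.subgroupOf S := by
        rw [Subgroup.mem_subgroupOf]; exact h1
      rw [hb, Subgroup.mem_bot] at h2
      have h3 : g * d * g⁻¹ * d⁻¹ = 1 := congrArg Subtype.val h2
      have h4 : g * d * g⁻¹ = d := by
        rwa [mul_inv_eq_one] at h3
      rw [mul_inv_eq_iff_eq_mul] at h4
      exact h4
    rw [hC, Subgroup.mem_bot] at this
    exact this
  · apply hc
    have : c ∈ Subgroup.centralizer (S : Set G) := by
      rw [Subgroup.mem_centralizer_iff]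
      intro g hg
      have h1 : (⟨g, hg⟩ : S) ∈ N.subgroupOf S := by rw [ht]; exact Subgroup.mem_top _
      rw [Subgroup.mem_subgroupOf] at h1
      exact (hcN g h1).symm.eq
    rw [hC, Subgroup.mem_bot] at this
    exact this

/-- If `x` and `y` lie in a common `p`-subgroup and some Sylow `p`-subgroup is commutative, they
commute. -/
theorem commute_of_sylow_comm [Finite G] {p : ℕ} [Fact p.Prime] (P : Sylow p G)
    (hP : IsMulCommutative ↥(P : Subgroup G)) {K : Subgroup G} (hK : IsPGroup p ↥K) {x y : G}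
    (hx : x ∈ K) (hy : y ∈ K) : Commute x y := by
  obtain ⟨Q, hQ⟩ := hK.exists_le_sylow
  obtain ⟨g, hg⟩ := MulAction.exists_smul_eq G Q P
  have h1 : ∀ z ∈ Q, g * z * g⁻¹ ∈ (P : Subgroup G) := by
    intro z hz
    have : MulAut.conj g z ∈ (g • Q : Sylow p G) := by
      exact Subgroup.smul_mem_pointwise_smul z (MulAut.conj g) (Q : Subgroup G) hz
    rw [hg] at this
    exact this
  have h2 := h1 x (hQ hx)
  have h3 := h1 y (hQ hy)
  have h4 : (⟨_, h2⟩ : ↥(P : Subgroup G)) * ⟨_, h3⟩ = ⟨_, h3⟩ * ⟨_, h2⟩ := mul_comm' _ _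
  have h5 : g * x * g⁻¹ * (g * y * g⁻¹) = g * y * g⁻¹ * (g * x * g⁻¹) :=
    congrArg Subtype.val h4
  have h6 : g * (x * y) * g⁻¹ = g * (y * x) * g⁻¹ := by
    calc g * (x * y) * g⁻¹ = g * x * g⁻¹ * (g * y * g⁻¹) := by group
      _ = g * y * g⁻¹ * (g * x * g⁻¹) := h5
      _ = g * (y * x) * g⁻¹ := by group
  exact mul_left_cancel (mul_right_cancel h6)

theorem wpair_of_sylow_comm [Finite G] {p : ℕ} [Fact p.Prime] (S : Subgroup G) [S.Normal]
    (hS : IsSimpleGroup S) (hC : Subgroup.centralizer (S : Set G) = ⊥) (P : Sylow p G)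
    (hP : IsMulCommutative ↥(P : Subgroup G)) {c d : G} (hc : c ≠ 1) (hd : d ≠ 1) :
    WPair p S c d := by
  by_contra hcon
  refine commute_all_contra S hS hC hc hd ?_
  intro g hg
  have h1 : IsPGroup p ↥(Subgroup.closure ({c, g * d * g⁻¹} : Set G)) := by
    by_contra h2
    exact hcon ⟨g, hg, h2⟩
  exact commute_of_sylow_comm P hP h1 (Subgroup.subset_closure (by simp))
    (Subgroup.subset_closure (by simp))

section Aut

variable {S : Type*} [Group S]

theorem conj_range_normal : ((MulAut.conj : S →* MulAut S).range).Normal := by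
  constructor
  rintro _ ⟨s, rfl⟩ a
  refine ⟨a s, ?_⟩
  ext x
  simp [MulAut.mul_apply, MulAut.conj_apply]

theorem centralizer_conj_range (hZ : Subgroup.center S = ⊥) :
    Subgroup.centralizer (((MulAut.conj : S →* MulAut S).range : Subgroup (MulAut S)) :
      Set (MulAut S)) = ⊥ := by
  rw [eq_bot_iff]
  intro a ha
  rw [Subgroup.mem_centralizer_iff] at ha
  rw [Subgroup.mem_bot]
  ext s
  have h1 := ha (MulAut.conj s) ⟨s, rfl⟩
  have h2 : ∀ x : S, s * a x * s⁻¹ = a s * a x * (a s)⁻¹ := by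
    intro x
    have := congrArg (fun f : MulAut S => f x) h1
    simpa [MulAut.mul_apply, MulAut.conj_apply] using this
  have h3 : (a s)⁻¹ * s ∈ Subgroup.center S := by
    rw [Subgroup.mem_center_iff]
    intro y
    obtain ⟨x, rfl⟩ := a.surjective y
    have h4 := h2 x
    have h5 : (a s)⁻¹ * s * a x = a x * ((a s)⁻¹ * s) := by
      have h6 : s * a x * s⁻¹ = a s * a x * (a s)⁻¹ := h4
      have h7 : (a s)⁻¹ * (s * a x * s⁻¹) * s = (a s)⁻¹ * (a s * a x * (a s)⁻¹) * s := by
        rw [h6]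
      calc (a s)⁻¹ * s * a x = (a s)⁻¹ * (s * a x * s⁻¹) * s := by group
        _ = (a s)⁻¹ * (a s * a x * (a s)⁻¹) * s := h7
        _ = a x * ((a s)⁻¹ * s) := by group
    exact h5.symm
  rw [hZ, Subgroup.mem_bot] at h3
  have h4 : s = a s := by
    rwa [inv_mul_eq_one, eq_comm] at h3
  simpa using h4.symm

theorem center_eq_bot_of_simple [IsSimpleGroup S] (hna : ¬ IsMulCommutative S) :
    Subgroup.center S = ⊥ := by
  rcases (inferInstance : (Subgroup.center S).Normal).eq_bot_or_eq_top with h | h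
  · exact h
  · exfalso
    apply hna
    refine ⟨⟨fun a b => ?_⟩⟩
    have : b ∈ Subgroup.center S := by rw [h]; exact Subgroup.mem_top _
    exact (Subgroup.mem_center_iff.mp this a)

theorem conj_injective_of_simple [IsSimpleGroup S] (hna : ¬ IsMulCommutative S) :
    Function.Injective (MulAut.conj : S →* MulAut S) := by
  rw [← MonoidHom.ker_eq_bot_iff, eq_bot_iff]
  intro x hx
  rw [← center_eq_bot_of_simple hna, Subgroup.mem_center_iff]
  intro y
  have h1 := congrArg (fun f : MulAut S => f y) (MonoidHom.mem_ker.mp hx)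
  simp only [MulAut.conj_apply, MulAut.one_apply] at h1
  rw [mul_inv_eq_iff_eq_mul] at h1
  exact h1.symm

theorem conj_range_simple [IsSimpleGroup S] (hna : ¬ IsMulCommutative S) :
    IsSimpleGroup ↥((MulAut.conj : S →* MulAut S).range) := by
  have e := MonoidHom.ofInjective (conj_injective_of_simple (S := S) hna)
  haveI : Nontrivial ↥((MulAut.conj : S →* MulAut S).range) := e.symm.surjective.nontrivial |> fun _ => e.injective.nontrivial
  exact IsSimpleGroup.isSimpleGroup_of_surjective e.toMonoidHom e.surjective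

theorem WRow.of_sylow_comm [Finite S] [IsSimpleGroup S] (hna : ¬ IsMulCommutative S) {p : ℕ}
    [Fact p.Prime] (P : Sylow p (MulAut S)) (hP : IsMulCommutative ↥(P : Subgroup (MulAut S))) :
    WRow p S := by
  intro c d hc hd
  have := conj_range_normal (S := S)
  have hp : p.Prime := Fact.out
  refine wpair_of_sylow_comm _ (conj_range_simple hna)
    (centralizer_conj_range (center_eq_bot_of_simple hna)) P hP ?_ ?_
  · rintro rfl
    rw [orderOf_one] at hc
    exact hp.one_lt.ne hc
  · rintro rfl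
    rw [orderOf_one] at hd
    exact hp.one_lt.ne hd

/-- If all automorphisms of order `p` are inner, only pairs of elements of `S` matter. -/
theorem WRow.of_inner [IsSimpleGroup S] (hna : ¬ IsMulCommutative S) {p : ℕ}
    (hout : ∀ a : MulAut S, orderOf a = p → a ∈ (MulAut.conj : S →* MulAut S).range)
    (h : ∀ x y : S, orderOf x = p → orderOf y = p → WPair p (⊤ : Subgroup S) x y) :
    WRow p S := by
  intro c d hc hd
  obtain ⟨x, rfl⟩ := hout c hc
  obtain ⟨y, rfl⟩ := hout d hd
  have hinj := conj_injective_of_simple (S := S) hna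
  rw [orderOf_injective _ hinj] at hc hd
  have := (h x y hc hd).of_injective (MulAut.conj : S →* MulAut S) hinj
  rwa [← MonoidHom.range_eq_map] at this

theorem SRow.of_inner [IsSimpleGroup S] (hna : ¬ IsMulCommutative S) {p : ℕ}
    (hout : ∀ a : MulAut S, orderOf a = p → a ∈ (MulAut.conj : S →* MulAut S).range)
    (h : ∀ x y : S, orderOf x = p → orderOf y = p → SPair p (⊤ : Subgroup S) x y) :
    SRow p S := by
  intro c d hc hd
  obtain ⟨x, rfl⟩ := hout c hc
  obtain ⟨y, rfl⟩ := hout d hd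
  have hinj := conj_injective_of_simple (S := S) hna
  rw [orderOf_injective _ hinj] at hc hd
  have := (h x y hc hd).of_injective (MulAut.conj : S →* MulAut S) hinj
  rwa [← MonoidHom.range_eq_map] at this

/-- Automorphisms of order `p` are inner when `p` does not divide the order of the outer
automorphism group. -/
theorem mem_conj_range_of_orderOf [Finite S] {p : ℕ} (hp : p.Prime)
    (hout : ¬ p ∣ ((MulAut.conj : S →* MulAut S).range).index) (a : MulAut S)
    (ha : orderOf a = p) : a ∈ (MulAut.conj : S →* MulAut S).range := by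
  have := conj_range_normal (S := S)
  set I := (MulAut.conj : S →* MulAut S).range
  have h1 : orderOf (QuotientGroup.mk' I a) ∣ p := by
    rw [← ha]; exact orderOf_map_dvd _ _
  have h2 : orderOf (QuotientGroup.mk' I a) ∣ I.index := by
    rw [Subgroup.index_eq_card]; exact orderOf_dvd_natCard _
  rcases (Nat.dvd_prime hp).mp h1 with h3 | h3
  · rw [orderOf_eq_one_iff] at h3
    rwa [QuotientGroup.mk'_apply, QuotientGroup.eq_one_iff] at h3
  · rw [h3] at h2
    exact absurd h2 hout

end Aut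

section inner

variable {S : Type*} [Group S] [Finite S]

/-- Pairs in a simple group with commutative Sylow `p`-subgroup. -/
theorem wpair_top_of_sylow_comm [IsSimpleGroup S] (hna : ¬ IsMulCommutative S) {p : ℕ}
    [Fact p.Prime] (P : Sylow p S) (hP : IsMulCommutative ↥(P : Subgroup S)) {x y : S}
    (hx : x ≠ 1) (hy : y ≠ 1) : WPair p (⊤ : Subgroup S) x y := by
  have hC : Subgroup.centralizer (((⊤ : Subgroup S) : Subgroup S) : Set S) = ⊥ := by
    rw [Subgroup.coe_top, Subgroup.centralizer_univ]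
    exact center_eq_bot_of_simple hna
  have hs : IsSimpleGroup ↥(⊤ : Subgroup S) :=
    IsSimpleGroup.isSimpleGroup_of_surjective (Subgroup.topEquiv (G := S)).symm.toMonoidHom
      (Subgroup.topEquiv (G := S)).symm.surjective
  exact wpair_of_sylow_comm _ hs hC P hP hx hy

theorem sylow_comm_of_card {p : ℕ} [hp : Fact p.Prime] (P : Sylow p S)
    (h : ¬ p ^ 3 ∣ Nat.card S) : IsMulCommutative ↥(P : Subgroup S) := by
  obtain ⟨n, hn⟩ := IsPGroup.iff_card.mp P.isPGroup'
  have hn2 : n ≤ 2 := by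
    by_contra hcon
    apply h
    calc p ^ 3 ∣ p ^ n := pow_dvd_pow p (by omega)
      _ ∣ Nat.card S := by rw [← hn]; exact Subgroup.card_subgroup_dvd_card _
  refine ⟨⟨fun a b => ?_⟩⟩
  interval_cases n
  · have : Subsingleton ↥(P : Subgroup S) := by
      rw [pow_zero] at hn
      exact (Nat.card_eq_one_iff_unique.mp hn).1
    exact Subsingleton.elim _ _
  · have : Fact p.Prime := hp
    have hcyc : IsCyclic ↥(P : Subgroup S) := isCyclic_of_prime_card (p := p) (by simpa using hn)
    letI := IsCyclic.commGroup (α := ↥(P : Subgroup S))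
    exact mul_comm a b
  · exact (IsPGroup.isMulCommutative_of_card_eq_prime_sq hn).1.1 a b

/-- The row for simple groups with `p³ ∤ |S|` and `p ∤ |Out S|`. -/
theorem WRow.of_card [IsSimpleGroup S] (hna : ¬ IsMulCommutative S) {p : ℕ} (hp : p.Prime)
    (hout : ∀ a : MulAut S, orderOf a = p → a ∈ (MulAut.conj : S →* MulAut S).range)
    (h : ¬ p ^ 3 ∣ Nat.card S) : WRow p S := by
  have : Fact p.Prime := ⟨hp⟩
  refine WRow.of_inner hna hout ?_
  intro x y hx hy
  refine wpair_top_of_sylow_comm hna (default : Sylow p S) (sylow_comm_of_card _ h) ?_ ?_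
  · rintro rfl
    rw [orderOf_one] at hx
    exact hp.one_lt.ne hx
  · rintro rfl
    rw [orderOf_one] at hy
    exact hp.one_lt.ne hy

end inner

section count

/-- **Counting lemma**: if every pair of conjugates of `x` and `y` lies in a common Sylow
`p`-subgroup then `|G| |N_G(P)| ≤ |C(x)| |C(y)| |P|²`. -/
theorem card_le_of_not_wpair [Finite G] {p : ℕ} [Fact p.Prime] (P : Sylow p G) {x y : G}
    (h : ¬ WPair p (⊤ : Subgroup G) x y) :
    Nat.card G * Nat.card ↥(Subgroup.normalizer ((P : Subgroup G) : Set G)) ≤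
      Nat.card ↥(Subgroup.centralizer ({x} : Set G)) *
        Nat.card ↥(Subgroup.centralizer ({y} : Set G)) * Nat.card ↥(P : Subgroup G) ^ 2 := by
  classical
  -- every pair of conjugates lies in a common Sylow subgroup
  have h1 : ∀ a b : G, ∃ Q : Sylow p G, a * x * a⁻¹ ∈ Q ∧ b * y * b⁻¹ ∈ Q := by
    intro a b
    have h2 : IsPGroup p ↥(Subgroup.closure ({x, (a⁻¹ * b) * y * (a⁻¹ * b)⁻¹} : Set G)) := by
      by_contra h3
      exact h ⟨_, Subgroup.mem_top _, h3⟩
    have h3 := (isPGroup_closure_pair_conj_iff (p := p) a x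
      ((a⁻¹ * b) * y * (a⁻¹ * b)⁻¹)).mpr h2
    have h4 : a * ((a⁻¹ * b) * y * (a⁻¹ * b)⁻¹) * a⁻¹ = b * y * b⁻¹ := by group
    rw [h4] at h3
    obtain ⟨Q, hQ⟩ := h3.exists_le_sylow
    exact ⟨Q, hQ (Subgroup.subset_closure (by simp)), hQ (Subgroup.subset_closure (by simp))⟩
  choose Q hQx hQy using h1
  -- conjugators of the Sylow subgroups
  have h2 : ∀ R : Sylow p G, ∃ t : G, ∀ z ∈ R, t * z * t⁻¹ ∈ (P : Subgroup G) := by
    intro R
    obtain ⟨g, hg⟩ := MulAction.exists_smul_eq G R P
    refine ⟨g, fun z hz => ?_⟩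
    have : MulAut.conj g z ∈ (g • R : Sylow p G) :=
      Subgroup.smul_mem_pointwise_smul z (MulAut.conj g) (R : Subgroup G) hz
    rw [hg] at this
    exact this
  choose t ht using h2
  -- representatives
  have hrep : ∀ w : G, ∃ r : G → G, ∀ a : G, (r (a * w * a⁻¹))⁻¹ * a ∈
      Subgroup.centralizer ({w} : Set G) := by
    intro w
    refine ⟨fun z => if hz : ∃ a : G, a * w * a⁻¹ = z then hz.choose else 1, fun a => ?_⟩
    have hz : ∃ b : G, b * w * b⁻¹ = a * w * a⁻¹ := ⟨a, rfl⟩
    simp only [dif_pos hz]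
    have hb := hz.choose_spec
    set b := hz.choose
    rw [Subgroup.mem_centralizer_singleton_iff]
    have h5 : w = b⁻¹ * (a * w * a⁻¹) * b := by rw [← hb]; group
    calc b⁻¹ * a * w = b⁻¹ * (a * w * a⁻¹) * b * (b⁻¹ * a) := by group
      _ = w * (b⁻¹ * a) := by rw [← h5]
  obtain ⟨rx, hrx⟩ := hrep x
  obtain ⟨ry, hry⟩ := hrep y
  let F : G × G → Sylow p G × (↥(P : Subgroup G) × ↥(Subgroup.centralizer ({x} : Set G))) ×
      (↥(P : Subgroup G) × ↥(Subgroup.centralizer ({y} : Set G))) := fun ab =>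
    (Q ab.1 ab.2,
      (⟨t (Q ab.1 ab.2) * (ab.1 * x * ab.1⁻¹) * (t (Q ab.1 ab.2))⁻¹,
          ht _ _ (hQx ab.1 ab.2)⟩, ⟨(rx (ab.1 * x * ab.1⁻¹))⁻¹ * ab.1, hrx ab.1⟩),
      (⟨t (Q ab.1 ab.2) * (ab.2 * y * ab.2⁻¹) * (t (Q ab.1 ab.2))⁻¹,
          ht _ _ (hQy ab.1 ab.2)⟩, ⟨(ry (ab.2 * y * ab.2⁻¹))⁻¹ * ab.2, hry ab.2⟩))
  have hF : Function.Injective F := by
    rintro ⟨a, b⟩ ⟨a', b'⟩ hab
    simp only [F, Prod.mk.injEq, Subtype.mk.injEq] at hab
    obtain ⟨hq, ⟨hx1, hx2⟩, ⟨hy1, hy2⟩⟩ := hab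
    rw [hq] at hx1 hy1
    have e1 : a * x * a⁻¹ = a' * x * a'⁻¹ := mul_left_cancel (mul_right_cancel hx1)
    have e2 : b * y * b⁻¹ = b' * y * b'⁻¹ := mul_left_cancel (mul_right_cancel hy1)
    rw [e1] at hx2
    rw [e2] at hy2
    rw [mul_left_cancel hx2, mul_left_cancel hy2]
  have hcard := Nat.card_le_card_of_injective F hF
  simp only [Nat.card_prod] at hcard
  have hS : Nat.card (Sylow p G) * Nat.card ↥(Subgroup.normalizer ((P : Subgroup G) : Set G))
      = Nat.card G := by
    rw [P.card_eq_index_normalizer, mul_comm]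
    exact Subgroup.card_mul_index _
  set N := Nat.card ↥(Subgroup.normalizer ((P : Subgroup G) : Set G))
  set s := Nat.card (Sylow p G)
  set cx := Nat.card ↥(Subgroup.centralizer ({x} : Set G))
  set cy := Nat.card ↥(Subgroup.centralizer ({y} : Set G))
  set q := Nat.card ↥(P : Subgroup G)
  have hspos : 0 < s := Nat.card_pos
  have h6 : s * (Nat.card G * N) ≤ s * (cx * cy * q ^ 2) := by
    calc s * (Nat.card G * N) = (s * N) * Nat.card G := by ring
      _ = Nat.card G * Nat.card G := by rw [hS]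
      _ ≤ s * (q * cx * (q * cy)) := hcard
      _ = s * (cx * cy * q ^ 2) := by ring
  exact Nat.le_of_mul_le_mul_left h6 hspos

theorem wpair_of_count [Finite G] {p : ℕ} [Fact p.Prime] (P : Sylow p G) {x y : G}
    (h : Nat.card ↥(Subgroup.centralizer ({x} : Set G)) *
        Nat.card ↥(Subgroup.centralizer ({y} : Set G)) * Nat.card ↥(P : Subgroup G) ^ 2 <
      Nat.card G * Nat.card ↥(Subgroup.normalizer ((P : Subgroup G) : Set G))) :
    WPair p (⊤ : Subgroup G) x y := by
  by_contra hcon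
  exact absurd (card_le_of_not_wpair P hcon) (not_le.mpr h)

/-- The simple form: `|C(x)| |C(y)| p^n < |G|` where `p^n` is the order of a Sylow subgroup. -/
theorem wpair_of_count' [Finite G] {p n : ℕ} [Fact p.Prime]
    (hn : ¬ p ^ (n + 1) ∣ Nat.card G) {x y : G}
    (h : Nat.card ↥(Subgroup.centralizer ({x} : Set G)) *
        Nat.card ↥(Subgroup.centralizer ({y} : Set G)) * p ^ n < Nat.card G) :
    WPair p (⊤ : Subgroup G) x y := by
  by_contra hcon
  have P : Sylow p G := default
  have h1 := card_le_of_not_wpair P hcon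
  obtain ⟨m, hm⟩ := IsPGroup.iff_card.mp P.isPGroup'
  have hm2 : m ≤ n := by
    by_contra h3
    apply hn
    calc p ^ (n + 1) ∣ p ^ m := pow_dvd_pow p (by omega)
      _ ∣ Nat.card G := by rw [← hm]; exact Subgroup.card_subgroup_dvd_card _
  have hp : p.Prime := Fact.out
  have hle : (P : Subgroup G) ≤ Subgroup.normalizer ((P : Subgroup G) : Set G) :=
    Subgroup.le_normalizer
  have h2 : Nat.card ↥(P : Subgroup G) ≤
      Nat.card ↥(Subgroup.normalizer ((P : Subgroup G) : Set G)) :=
    Subgroup.card_le_of_le hle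
  set N := Nat.card ↥(Subgroup.normalizer ((P : Subgroup G) : Set G))
  set cx := Nat.card ↥(Subgroup.centralizer ({x} : Set G))
  set cy := Nat.card ↥(Subgroup.centralizer ({y} : Set G))
  set q := Nat.card ↥(P : Subgroup G)
  have hq : 0 < q := Nat.card_pos
  have hqn : q ≤ p ^ n := by rw [hm]; exact Nat.pow_le_pow_right hp.pos hm2
  have h3 : Nat.card G * q ≤ cx * cy * q * q := by
    calc Nat.card G * q ≤ Nat.card G * N := Nat.mul_le_mul_left _ h2
      _ ≤ cx * cy * q ^ 2 := h1
      _ = cx * cy * q * q := by ring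
  have h4 : Nat.card G ≤ cx * cy * q := Nat.le_of_mul_le_mul_right h3 hq
  have h5 : cx * cy * q ≤ cx * cy * p ^ n := Nat.mul_le_mul_left _ hqn
  omega

end count

end Cfsg.Agent.H533.T5
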