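import Mathlib

/-!
# The pair predicates for S3826-S3828, S2274, S2275 (core T5)

`WPair p S c d`: some `S`-conjugate `d'` of `d` generates with `c` a group which is not a `p`-group.
`SPair p S c d`: some `S`-conjugate `d'` of `d` generates with `c` a non-solvable group, and for
some `S`-conjugate `d''` of `d` the product `c * d''` is not a `p`-element.

Rows: `WRow p S`, `SRow p S` : all automorphisms `c d` of order `p` of the simple group `S`.
-/

set_option autoImplicit false

namespace Cfsg.Agent.H533.T5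

variable {G : Type*} [Group G] {H : Type*} [Group H]

/-- Some `S`-conjugate of `d` generates with `c` a group which is not a `p`-group. -/
def WPair (p : ℕ) (S : Subgroup G) (c d : G) : Prop :=
  ∃ g ∈ S, ¬ IsPGroup p ↥(Subgroup.closure ({c, g * d * g⁻¹} : Set G))

/-- Some `S`-conjugate of `d` generates with `c` a non-solvable group and some `S`-conjugate of
`d` has non-`p`-power-order product with `c`. -/
def SPair (p : ℕ) (S : Subgroup G) (c d : G) : Prop :=
  (∃ g ∈ S, ¬ Group.IsSolvable ↥(Subgroup.closure ({c, g * d * g⁻¹} : Set G))) ∧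
  (∃ g ∈ S, ¬ ∃ k : ℕ, orderOf (c * (g * d * g⁻¹)) = p ^ k)

/-- The weak row: for the inner automorphism group acting on pairs of automorphisms of order
`p`. -/
def WRow (p : ℕ) (S : Type*) [Group S] : Prop :=
  ∀ c d : MulAut S, orderOf c = p → orderOf d = p →
    WPair p (MulAut.conj : S →* MulAut S).range c d

/-- The strong row. -/
def SRow (p : ℕ) (S : Type*) [Group S] : Prop :=
  ∀ c d : MulAut S, orderOf c = p → orderOf d = p →
    SPair p (MulAut.conj : S →* MulAut S).range c d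

section basic

variable {p : ℕ} {S T : Subgroup G} {c d : G}

theorem WPair.mono (h : WPair p S c d) (hST : S ≤ T) : WPair p T c d := by
  obtain ⟨g, hg, h⟩ := h
  exact ⟨g, hST hg, h⟩

theorem SPair.mono (h : SPair p S c d) (hST : S ≤ T) : SPair p T c d := by
  obtain ⟨⟨g, hg, h⟩, ⟨k, hk, h'⟩⟩ := h
  exact ⟨⟨g, hST hg, h⟩, ⟨k, hST hk, h'⟩⟩

/-- A product of members of a `p`-group has `p`-power order. -/
theorem exists_orderOf_of_isPGroup (hp : p.Prime) {K : Subgroup G} (hK : IsPGroup p ↥K) {x : G}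
    (hx : x ∈ K) : ∃ k : ℕ, orderOf x = p ^ k := by
  obtain ⟨k, hk⟩ := hK ⟨x, hx⟩
  have h1 : x ^ p ^ k = 1 := by simpa using congrArg (Subtype.val) hk
  obtain ⟨j, -, hj⟩ := (Nat.dvd_prime_pow hp).mp (orderOf_dvd_of_pow_eq_one h1)
  exact ⟨j, hj⟩

theorem SPair.weak (hp : p.Prime) (h : SPair p S c d) : WPair p S c d := by
  obtain ⟨-, ⟨g, hg, h⟩⟩ := h
  refine ⟨g, hg, fun hP => h ?_⟩
  exact exists_orderOf_of_isPGroup hp hP
    (mul_mem (Subgroup.subset_closure (by simp)) (Subgroup.subset_closure (by simp)))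

theorem SRow.weak {S : Type*} [Group S] {p : ℕ} (hp : p.Prime) (h : SRow p S) : WRow p S :=
  fun c d hc hd => (h c d hc hd).weak hp

end basic

section hom

variable {p : ℕ}

theorem closure_pair_map (φ : G →* H) (a b : G) :
    (Subgroup.closure ({a, b} : Set G)).map φ = Subgroup.closure ({φ a, φ b} : Set H) := by
  rw [MonoidHom.map_closure]
  congr 1
  simp [Set.image_pair]

/-- The pair property lifts along homomorphisms. -/
theorem WPair.of_hom (φ : G →* H) {S : Subgroup G} {T : Subgroup H} (hT : T ≤ S.map φ) {c d : G}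
    (h : WPair p T (φ c) (φ d)) : WPair p S c d := by
  obtain ⟨t, ht, h⟩ := h
  obtain ⟨g, hg, rfl⟩ := hT ht
  refine ⟨g, hg, fun hP => h ?_⟩
  have : Subgroup.closure ({φ c, φ g * φ d * (φ g)⁻¹} : Set H)
      = (Subgroup.closure ({c, g * d * g⁻¹} : Set G)).map φ := by
    rw [closure_pair_map]; simp
  rw [this]
  exact hP.map φ

theorem SPair.of_hom (hp : p.Prime) (φ : G →* H) {S : Subgroup G} {T : Subgroup H}
    (hT : T ≤ S.map φ) {c d : G} (h : SPair p T (φ c) (φ d)) : SPair p S c d := by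
  obtain ⟨⟨t, ht, h⟩, ⟨t', ht', h'⟩⟩ := h
  obtain ⟨g, hg, rfl⟩ := hT ht
  obtain ⟨g', hg', rfl⟩ := hT ht'
  refine ⟨⟨g, hg, fun hP => h ?_⟩, ⟨g', hg', fun hP => h' ?_⟩⟩
  · have : Subgroup.closure ({φ c, φ g * φ d * (φ g)⁻¹} : Set H)
        = (Subgroup.closure ({c, g * d * g⁻¹} : Set G)).map φ := by
      rw [closure_pair_map]; simp
    rw [this]
    exact Group.isSolvable_of_surjective
      (f := φ.subgroupMap (Subgroup.closure ({c, g * d * g⁻¹} : Set G)))
      (φ.subgroupMap_surjective _)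
  · obtain ⟨k, hk⟩ := hP
    have h1 : orderOf (φ c * (φ g' * φ d * (φ g')⁻¹)) ∣ p ^ k := by
      rw [← hk]
      have := orderOf_map_dvd φ (c * (g' * d * g'⁻¹))
      simpa using this
    obtain ⟨j, -, hj⟩ := (Nat.dvd_prime_pow hp).mp h1
    exact ⟨j, hj⟩

/-- The pair property passes from a subgroup `M` to the group. -/
theorem WPair.of_injective (φ : G →* H) (hφ : Function.Injective φ) {S : Subgroup G} {c d : G}
    (h : WPair p S c d) : WPair p (S.map φ) (φ c) (φ d) := by
  obtain ⟨g, hg, h⟩ := h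
  refine ⟨φ g, Subgroup.mem_map_of_mem φ hg, fun hP => h ?_⟩
  have : Subgroup.closure ({φ c, φ g * φ d * (φ g)⁻¹} : Set H)
      = (Subgroup.closure ({c, g * d * g⁻¹} : Set G)).map φ := by
    rw [closure_pair_map]; simp
  rw [this] at hP
  exact hP.of_injective (φ.subgroupMap _) (fun a b hab => by
    apply Subtype.ext
    apply hφ
    exact congrArg Subtype.val hab)

theorem SPair.of_injective (φ : G →* H) (hφ : Function.Injective φ) {S : Subgroup G} {c d : G}
    (h : SPair p S c d) : SPair p (S.map φ) (φ c) (φ d) := by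
  obtain ⟨⟨g, hg, h⟩, ⟨g', hg', h'⟩⟩ := h
  refine ⟨⟨φ g, Subgroup.mem_map_of_mem φ hg, fun hP => h ?_⟩,
    ⟨φ g', Subgroup.mem_map_of_mem φ hg', fun hP => h' ?_⟩⟩
  · have : Subgroup.closure ({φ c, φ g * φ d * (φ g)⁻¹} : Set H)
        = (Subgroup.closure ({c, g * d * g⁻¹} : Set G)).map φ := by
      rw [closure_pair_map]; simp
    rw [this] at hP
    exact Group.isSolvable_of_isSolvable_injective (f := φ.subgroupMap
      (Subgroup.closure ({c, g * d * g⁻¹} : Set G))) (fun a b hab => by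
        apply Subtype.ext
        apply hφ
        exact congrArg Subtype.val hab)
  · obtain ⟨k, hk⟩ := hP
    refine ⟨k, ?_⟩
    rw [← hk, ← orderOf_injective φ hφ]
    simp

/-- From a subgroup `M` containing `c` and `d`. -/
theorem WPair.of_subgroup {M S : Subgroup G} {c d : M} (h : WPair p (S.subgroupOf M) c d) :
    WPair p S (c : G) (d : G) :=
  (h.of_injective M.subtype M.subtype_injective).mono (by
    rw [Subgroup.subgroupOf_map_subtype]; exact inf_le_left)

theorem SPair.of_subgroup {M S : Subgroup G} {c d : M} (h : SPair p (S.subgroupOf M) c d) :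
    SPair p S (c : G) (d : G) :=
  (h.of_injective M.subtype M.subtype_injective).mono (by
    rw [Subgroup.subgroupOf_map_subtype]; exact inf_le_left)

/-- **The section form**: `c d` lie in a subgroup `M`, `φ` is a homomorphism defined on `M`, and
the pair property holds for the images with respect to the image of `S ⊓ M`. -/
theorem WPair.of_section {M S : Subgroup G} (φ : M →* H) {T : Subgroup H}
    (hT : T ≤ (S.subgroupOf M).map φ) {c d : M} (h : WPair p T (φ c) (φ d)) :
    WPair p S (c : G) (d : G) :=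
  (h.of_hom φ hT).of_subgroup

theorem SPair.of_section (hp : p.Prime) {M S : Subgroup G} (φ : M →* H) {T : Subgroup H}
    (hT : T ≤ (S.subgroupOf M).map φ) {c d : M} (h : SPair p T (φ c) (φ d)) :
    SPair p S (c : G) (d : G) :=
  (h.of_hom hp φ hT).of_subgroup

end hom

section conj

variable {p : ℕ} {S : Subgroup G} {c d : G}

theorem closure_pair_conj (x a b : G) :
    Subgroup.closure ({x * a * x⁻¹, x * b * x⁻¹} : Set G)
      = (Subgroup.closure ({a, b} : Set G)).map (MulAut.conj x).toMonoidHom := by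
  rw [closure_pair_map]; rfl

theorem isPGroup_closure_pair_conj_iff (x a b : G) :
    IsPGroup p ↥(Subgroup.closure ({x * a * x⁻¹, x * b * x⁻¹} : Set G)) ↔
      IsPGroup p ↥(Subgroup.closure ({a, b} : Set G)) := by
  rw [closure_pair_conj]
  let e := (Subgroup.closure ({a, b} : Set G)).equivMapOfInjective
    (MulAut.conj x).toMonoidHom (MulAut.conj x).injective
  exact ⟨fun h => h.of_equiv e.symm, fun h => h.of_equiv e⟩

theorem isSolvable_closure_pair_conj_iff (x a b : G) :
    Group.IsSolvable ↥(Subgroup.closure ({x * a * x⁻¹, x * b * x⁻¹} : Set G)) ↔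
      Group.IsSolvable ↥(Subgroup.closure ({a, b} : Set G)) := by
  rw [closure_pair_conj]
  let e := (Subgroup.closure ({a, b} : Set G)).equivMapOfInjective
    (MulAut.conj x).toMonoidHom (MulAut.conj x).injective
  constructor
  · intro h
    exact Group.isSolvable_of_isSolvable_injective (f := e.toMonoidHom) e.injective
  · intro h
    exact Group.isSolvable_of_surjective (f := e.toMonoidHom) e.surjective

theorem orderOf_conj_mul (x a b : G) :
    orderOf (x * a * x⁻¹ * (x * b * x⁻¹)) = orderOf (a * b) := by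
  have : x * a * x⁻¹ * (x * b * x⁻¹) = MulAut.conj x (a * b) := by
    simp [MulAut.conj_apply, mul_assoc]
  rw [this]
  exact orderOf_injective (MulAut.conj x).toMonoidHom (MulAut.conj x).injective _

/-- `d` may be replaced by an `S`-conjugate. -/
theorem WPair.conj_right {s : G} (hs : s ∈ S) (h : WPair p S c (s * d * s⁻¹)) :
    WPair p S c d := by
  obtain ⟨g, hg, h⟩ := h
  refine ⟨g * s, mul_mem hg hs, ?_⟩
  have : g * s * d * (g * s)⁻¹ = g * (s * d * s⁻¹) * g⁻¹ := by group
  rwa [this]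

theorem SPair.conj_right {s : G} (hs : s ∈ S) (h : SPair p S c (s * d * s⁻¹)) :
    SPair p S c d := by
  obtain ⟨⟨g, hg, h⟩, ⟨g', hg', h'⟩⟩ := h
  refine ⟨⟨g * s, mul_mem hg hs, ?_⟩, ⟨g' * s, mul_mem hg' hs, ?_⟩⟩
  · have : g * s * d * (g * s)⁻¹ = g * (s * d * s⁻¹) * g⁻¹ := by group
    rwa [this]
  · have : g' * s * d * (g' * s)⁻¹ = g' * (s * d * s⁻¹) * g'⁻¹ := by group
    rwa [this]

/-- `c` may be replaced by an `S`-conjugate. -/
theorem WPair.conj_left {s : G} (hs : s ∈ S) (h : WPair p S (s * c * s⁻¹) d) :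
    WPair p S c d := by
  obtain ⟨g, hg, h⟩ := h
  refine ⟨s⁻¹ * g, mul_mem (inv_mem hs) hg, fun hP => h ?_⟩
  have h1 := (isPGroup_closure_pair_conj_iff (p := p) s c (s⁻¹ * g * d * (s⁻¹ * g)⁻¹)).mpr hP
  have : s * (s⁻¹ * g * d * (s⁻¹ * g)⁻¹) * s⁻¹ = g * d * g⁻¹ := by group
  rwa [this] at h1

theorem SPair.conj_left {s : G} (hs : s ∈ S) (h : SPair p S (s * c * s⁻¹) d) :
    SPair p S c d := by
  obtain ⟨⟨g, hg, h⟩, ⟨g', hg', h'⟩⟩ := h
  refine ⟨⟨s⁻¹ * g, mul_mem (inv_mem hs) hg, fun hP => h ?_⟩,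
    ⟨s⁻¹ * g', mul_mem (inv_mem hs) hg', fun hP => h' ?_⟩⟩
  · have h1 := (isSolvable_closure_pair_conj_iff s c (s⁻¹ * g * d * (s⁻¹ * g)⁻¹)).mpr hP
    have : s * (s⁻¹ * g * d * (s⁻¹ * g)⁻¹) * s⁻¹ = g * d * g⁻¹ := by group
    rwa [this] at h1
  · have h1 := orderOf_conj_mul s c (s⁻¹ * g' * d * (s⁻¹ * g')⁻¹)
    have : s * (s⁻¹ * g' * d * (s⁻¹ * g')⁻¹) * s⁻¹ = g' * d * g'⁻¹ := by group
    rw [this] at h1
    rw [h1]
    exact hP

theorem WPair.symm (h : WPair p S c d) : WPair p S d c := by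
  obtain ⟨g, hg, h⟩ := h
  refine ⟨g⁻¹, inv_mem hg, fun hP => h ?_⟩
  have h1 := (isPGroup_closure_pair_conj_iff (p := p) g d (g⁻¹ * c * g⁻¹⁻¹)).mpr hP
  have : g * (g⁻¹ * c * g⁻¹⁻¹) * g⁻¹ = c := by group
  rw [this, Set.pair_comm] at h1
  exact h1

theorem SPair.symm (h : SPair p S c d) : SPair p S d c := by
  obtain ⟨⟨g, hg, h⟩, ⟨g', hg', h'⟩⟩ := h
  refine ⟨⟨g⁻¹, inv_mem hg, fun hP => h ?_⟩, ⟨g'⁻¹, inv_mem hg', fun hP => h' ?_⟩⟩
  · have h1 := (isSolvable_closure_pair_conj_iff g d (g⁻¹ * c * g⁻¹⁻¹)).mpr hP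
    have : g * (g⁻¹ * c * g⁻¹⁻¹) * g⁻¹ = c := by group
    rw [this, Set.pair_comm] at h1
    exact h1
  · obtain ⟨k, hk⟩ := hP
    refine ⟨k, ?_⟩
    rw [← hk]
    have h1 := orderOf_conj_mul g' d (g'⁻¹ * c * g'⁻¹⁻¹)
    have : g' * (g'⁻¹ * c * g'⁻¹⁻¹) * g'⁻¹ = c := by group
    rw [this] at h1
    rw [← h1]
    have h2 := orderOf_injective (MulAut.conj c).toMonoidHom (MulAut.conj c).injective
      (g' * d * g'⁻¹ * c)
    rw [← h2]
    congr 1
    simp [mul_assoc]

/-- Powers. -/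
theorem WPair.of_pow (i j : ℤ) (h : WPair p S (c ^ i) (d ^ j)) : WPair p S c d := by
  obtain ⟨g, hg, h⟩ := h
  refine ⟨g, hg, fun hP => h (hP.to_le ?_)⟩
  rw [Subgroup.closure_le]
  rintro x hx
  rcases hx with rfl | hx
  · exact zpow_mem (Subgroup.subset_closure (by simp)) _
  · rw [Set.mem_singleton_iff] at hx
    rw [hx]
    have : g * d ^ j * g⁻¹ = (g * d * g⁻¹) ^ j := by
      rw [conj_zpow]
    rw [this]
    exact zpow_mem (Subgroup.subset_closure (by simp)) _

end conj

end Cfsg.Agent.H533.T5
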