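import Cfsg.Agent.H533.T5.Tools
import Cfsg.Prelude.Def_Classification2

/-!
# The seventeen sporadic pair rows with non-abelian Sylow `p`-subgroups, `p ≥ 5`
-/

set_option autoImplicit false

namespace Cfsg.Agent.H533.T5

universe u

open Cfsg

/-- The row gives all pairs of elements of order `p` of the group itself. -/
theorem WRow.inner {S : Type*} [Group S] [IsSimpleGroup S] (hna : ¬ IsMulCommutative S) {p : ℕ}
    (h : WRow p S) {x y : S} (hx : orderOf x = p) (hy : orderOf y = p) :
    WPair p (⊤ : Subgroup S) x y := by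
  have hinj := conj_injective_of_simple (S := S) hna
  refine (h (MulAut.conj x) (MulAut.conj y) ?_ ?_).of_hom (MulAut.conj : S →* MulAut S) ?_
  · rw [orderOf_injective _ hinj, hx]
  · rw [orderOf_injective _ hinj, hy]
  · rintro _ ⟨s, rfl⟩
    exact Subgroup.mem_map_of_mem _ (Subgroup.mem_top s)

/-- If `G` has a subgroup isomorphic to `S`, of index prime to `p`, then the row of `S` gives all
pairs of elements of order `p` of `G`. -/
theorem WRow.pairs_of_sylow {S : Type*} [Group S] [IsSimpleGroup S]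
    (hna : ¬ IsMulCommutative S) {p : ℕ} [Fact p.Prime] (h : WRow p S) {G : Type*} [Group G]
    [Finite G] {K : Subgroup G} (e : K ≃* S) (hK : ¬ p ∣ K.index) {x y : G}
    (hx : orderOf x = p) (hy : orderOf y = p) : WPair p (⊤ : Subgroup G) x y := by
  refine WPair.of_sylow hK (fun a b ha hb => ?_) hx hy
  refine (h.inner hna (x := e a) (y := e b) ?_ ?_).of_hom e.toMonoidHom ?_
  · rw [← ha]; exact orderOf_injective e.toMonoidHom e.injective a
  · rw [← hb]; exact orderOf_injective e.toMonoidHom e.injective b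
  · intro z _
    exact ⟨e.symm z, Subgroup.mem_top _, e.apply_symm_apply z⟩

/-- The weak pair rows of the sporadic groups whose order is divisible by `p ^ 3`, `p ≥ 5`. -/
structure SporBig : Prop where
  hs : ∀ (K : Type u) [Group K] [Finite K] [IsSimpleGroup K], Spor.IsoHS K → WRow 5 K
  mcl : ∀ (K : Type u) [Group K] [Finite K] [IsSimpleGroup K], Spor.IsoMcL K → WRow 5 K
  ru : ∀ (K : Type u) [Group K] [Finite K] [IsSimpleGroup K], Spor.IsoRu K → WRow 5 K
  co3 : ∀ (K : Type u) [Group K] [Finite K] [IsSimpleGroup K], Spor.IsoCo3 K → WRow 5 K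
  co2 : ∀ (K : Type u) [Group K] [Finite K] [IsSimpleGroup K], Spor.IsoCo2 K → WRow 5 K
  co1 : ∀ (K : Type u) [Group K] [Finite K] [IsSimpleGroup K], Spor.IsoCo1 K → WRow 5 K
  ly : ∀ (K : Type u) [Group K] [Finite K] [IsSimpleGroup K], Spor.IsoLy K → WRow 5 K
  th : ∀ (K : Type u) [Group K] [Finite K] [IsSimpleGroup K], Spor.IsoTh K → WRow 5 K
  hn : ∀ (K : Type u) [Group K] [Finite K] [IsSimpleGroup K], Spor.IsoHN K → WRow 5 K
  b : ∀ (K : Type u) [Group K] [Finite K] [IsSimpleGroup K], Spor.IsoB K → WRow 5 K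
  m : ∀ (K : Type u) [Group K] [Finite K] [IsSimpleGroup K], Spor.IsoM K →
    WRow 5 K ∧ WRow 7 K ∧ WRow 13 K
  on : ∀ (K : Type u) [Group K] [Finite K] [IsSimpleGroup K], Spor.IsoON K → WRow 7 K
  he : ∀ (K : Type u) [Group K] [Finite K] [IsSimpleGroup K], Spor.IsoHe K → WRow 7 K
  fi24 : ∀ (K : Type u) [Group K] [Finite K] [IsSimpleGroup K], Spor.IsoFi24' K → WRow 7 K
  j4 : ∀ (K : Type u) [Group K] [Finite K] [IsSimpleGroup K], Spor.IsoJ4 K → WRow 11 K

end Cfsg.Agent.H533.T5
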