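import Cfsg.Agent.H533.T5.Tools
import Cfsg.Agent.H533.T5.Block
import Cfsg.Agent.S2277

/-!
# The reduction of S3827 to the weak rows

`closure_isPGroup` : if `WRow p K` holds for all non-abelian finite simple groups `K`, then two
normal sets `C`, `D` with `⟨c, d⟩` a `p`-group for all `c ∈ C`, `d ∈ D`, both generating `G`,
force `G` to be a `p`-group (`p ≥ 3`).
-/

set_option autoImplicit false

namespace Cfsg.Agent.H533.T5.Red

universe u

open Subgroup Cfsg

open scoped Pointwise commutatorElement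

/-- Two normal sets all whose mixed pairs generate `p`-groups. -/
structure Two (p : ℕ) {G : Type u} [Group G] (C D : Set G) : Prop where
  conjC : ∀ g : G, ∀ c ∈ C, g * c * g⁻¹ ∈ C
  conjD : ∀ g : G, ∀ d ∈ D, g * d * g⁻¹ ∈ D
  pair : ∀ c ∈ C, ∀ d ∈ D, IsPGroup p ↥(Subgroup.closure ({c, d} : Set G))

variable {G : Type u} [Group G] {p : ℕ} {C D : Set G}

theorem Two.symm (h : Two p C D) : Two p D C where
  conjC := h.conjD
  conjD := h.conjC
  pair := fun d hd c hc => by
    rw [Set.pair_comm]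
    exact h.pair c hc d hd

theorem Two.map {H : Type u} [Group H] (φ : G →* H) (hφ : Function.Surjective φ) (h : Two p C D) :
    Two p (φ '' C) (φ '' D) where
  conjC := by
    rintro g _ ⟨c, hc, rfl⟩
    obtain ⟨x, rfl⟩ := hφ g
    exact ⟨x * c * x⁻¹, h.conjC x c hc, by simp⟩
  conjD := by
    rintro g _ ⟨c, hc, rfl⟩
    obtain ⟨x, rfl⟩ := hφ g
    exact ⟨x * c * x⁻¹, h.conjD x c hc, by simp⟩
  pair := by
    rintro _ ⟨c, hc, rfl⟩ _ ⟨d, hd, rfl⟩
    rw [← closure_pair_map]
    exact (h.pair c hc d hd).map φ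

theorem Two.isPElement (h : Two p C D) (hD : D.Nonempty) {c : G} (hc : c ∈ C) :
    IsPGroup p ↥(Subgroup.zpowers c) := by
  obtain ⟨d, hd⟩ := hD
  refine (h.pair c hc d hd).to_le ?_
  rw [Subgroup.zpowers_le]
  exact Subgroup.subset_closure (by simp)

/-- An extension of a `p`-group by a `p`-group. -/
theorem isPGroup_of_quotient [Finite G] [Fact p.Prime] {N : Subgroup G} [N.Normal]
    (hN : IsPGroup p N) (hQ : IsPGroup p (G ⧸ N)) : IsPGroup p G := by
  obtain ⟨a, ha⟩ := IsPGroup.iff_card.mp hN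
  obtain ⟨b, hb⟩ := IsPGroup.iff_card.mp hQ
  refine IsPGroup.of_card (n := b + a) ?_
  rw [Subgroup.card_eq_card_quotient_mul_card_subgroup N, ha, hb, pow_add]

/-- Minimal nontrivial normal subgroups relative to `M`. -/
theorem exists_minimal_normalized [Finite G] (M : Subgroup G) (hM : M ≠ ⊥) :
    ∃ S : Subgroup G, S ≤ M ∧ S ≠ ⊥ ∧ M ≤ Subgroup.normalizer (S : Set G) ∧
      ∀ T : Subgroup G, T ≤ S → T ≠ ⊥ → M ≤ Subgroup.normalizer (T : Set G) → T = S := by
  classical
  let 𝒮 : Set (Subgroup G) := {S | S ≤ M ∧ S ≠ ⊥ ∧ M ≤ Subgroup.normalizer (S : Set G)}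
  have hfin : 𝒮.Finite := Set.toFinite _
  have hne : 𝒮.Nonempty := ⟨M, le_rfl, hM, Subgroup.le_normalizer⟩
  obtain ⟨S, hS⟩ := hfin.exists_minimal hne
  refine ⟨S, hS.prop.1, hS.prop.2.1, hS.prop.2.2, ?_⟩
  intro T hTS hT hMT
  exact le_antisymm hTS (hS.le_of_le ⟨hTS.trans hS.prop.1, hT, hMT⟩ hTS)

/-- Minimal normal subgroups. -/
theorem exists_minimal_normal [Finite G] [Nontrivial G] :
    ∃ M : Subgroup G, M.Normal ∧ M ≠ ⊥ ∧ ∀ T : Subgroup G, T.Normal → T ≤ M → T ≠ ⊥ → T = M := by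
  obtain ⟨M, -, hM, hMn, hmin⟩ := exists_minimal_normalized (⊤ : Subgroup G) top_ne_bot
  refine ⟨M, Subgroup.normalizer_eq_top_iff.mp (top_le_iff.mp hMn), hM, ?_⟩
  intro T hT hTM hT1
  exact hmin T hTM hT1 (by rw [Subgroup.normalizer_eq_top_iff.mpr hT])

/-! ### `p`-elements and Sylow subgroups of `M P` -/

section sylow

variable [Finite G] [Fact p.Prime]

theorem sup_sylow_eq_top {M : Subgroup G} [M.Normal] (hQ : IsPGroup p (G ⧸ M)) (P : Sylow p G) :
    M ⊔ (P : Subgroup G) = ⊤ := by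
  have h1 : (M ⊔ (P : Subgroup G)).index ∣ (P : Subgroup G).index :=
    Subgroup.index_dvd_of_le le_sup_right
  have h2 : (M ⊔ (P : Subgroup G)).index ∣ M.index := Subgroup.index_dvd_of_le le_sup_left
  obtain ⟨k, hk⟩ := IsPGroup.iff_card.mp hQ
  have h3 : M.index = p ^ k := by rw [← hk]; rfl
  rw [h3] at h2
  obtain ⟨j, -, hj⟩ := (Nat.dvd_prime_pow Fact.out).mp h2
  rw [← Subgroup.index_eq_one, hj]
  rcases Nat.eq_zero_or_pos j with h0 | h0
  · rw [h0, pow_zero]
  · exfalso
    apply P.not_dvd_index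
    refine dvd_trans ?_ h1
    rw [hj]
    exact dvd_pow_self p h0.ne'

/-- If `G = M P` then every `p`-element is conjugate under `M` into `P`. -/
theorem exists_conj_mem {M : Subgroup G} [M.Normal] (hQ : IsPGroup p (G ⧸ M)) (P : Sylow p G)
    {c : G} (hc : IsPGroup p ↥(Subgroup.zpowers c)) :
    ∃ m ∈ M, m⁻¹ * c * m ∈ (P : Subgroup G) := by
  obtain ⟨Q, hQle⟩ := hc.exists_le_sylow
  obtain ⟨g, hg⟩ := MulAction.exists_smul_eq G P Q
  have hgt : g ∈ M ⊔ (P : Subgroup G) := by rw [sup_sylow_eq_top hQ P]; exact Subgroup.mem_top g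
  rw [Subgroup.mem_sup_of_normal_left] at hgt
  obtain ⟨m, hm, x, hx, hmx⟩ := hgt
  refine ⟨m, hm, ?_⟩
  have hcQ : c ∈ (Q : Subgroup G) := hQle (Subgroup.mem_zpowers c)
  rw [← hg] at hcQ
  have h1 : c ∈ MulAut.conj g • (P : Subgroup G) := hcQ
  rw [Subgroup.mem_pointwise_smul_iff_inv_smul_mem] at h1
  have h2 : (MulAut.conj g)⁻¹ • c = g⁻¹ * c * g := by
    rw [← map_inv, MulAut.smul_def, MulAut.conj_apply, inv_inv]
  rw [h2] at h1
  have h3 : m⁻¹ * c * m = x * (g⁻¹ * c * g) * x⁻¹ := by rw [← hmx]; group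
  rw [h3]
  exact mul_mem (mul_mem hx h1) (inv_mem hx)

theorem closure_inter_sylow {M : Subgroup G} [M.Normal] (hM : (Nat.card M).Coprime p)
    (hQ : IsPGroup p (G ⧸ M)) (P : Sylow p G) (hconj : ∀ g : G, ∀ c ∈ C, g * c * g⁻¹ ∈ C)
    (hp : ∀ c ∈ C, IsPGroup p ↥(Subgroup.zpowers c)) (hC : Subgroup.closure C = ⊤) :
    Subgroup.closure (C ∩ (P : Set G)) = (P : Subgroup G) := by
  set H := Subgroup.closure (C ∩ (P : Set G)) with hH
  have hHP : H ≤ (P : Subgroup G) := by
    rw [hH, Subgroup.closure_le]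
    exact Set.inter_subset_right
  have htop : M ⊔ H = ⊤ := by
    rw [eq_top_iff, ← hC, Subgroup.closure_le]
    intro c hc
    obtain ⟨m, hm, hmP⟩ := exists_conj_mem hQ P (hp c hc)
    have h1 : m⁻¹ * c * m ∈ C := by simpa using hconj m⁻¹ c hc
    have h2 : m⁻¹ * c * m ∈ H := Subgroup.subset_closure ⟨h1, hmP⟩
    have hmM : m ∈ M ⊔ H := (le_sup_left : M ≤ M ⊔ H) hm
    have h3 : c = m * (m⁻¹ * c * m) * m⁻¹ := by group
    rw [h3]
    exact mul_mem (mul_mem hmM ((le_sup_right : H ≤ M ⊔ H) h2)) (inv_mem hmM)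
  have hdisj : M ⊓ (P : Subgroup G) = ⊥ := by
    rw [← Subgroup.card_eq_one]
    obtain ⟨k, hk⟩ := IsPGroup.iff_card.mp P.isPGroup'
    have h1 : Nat.card ↥(M ⊓ (P : Subgroup G)) ∣ Nat.card M := Subgroup.card_dvd_of_le inf_le_left
    have h2 : Nat.card ↥(M ⊓ (P : Subgroup G)) ∣ Nat.card (P : Subgroup G) :=
      Subgroup.card_dvd_of_le inf_le_right
    have h3 : (Nat.card M).Coprime (Nat.card (P : Subgroup G)) := by
      rw [hk]
      exact hM.pow_right k
    exact Nat.eq_one_of_dvd_coprimes h3 h1 h2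
  refine le_antisymm hHP ?_
  intro x hx
  have hx' : x ∈ M ⊔ H := by rw [htop]; exact Subgroup.mem_top x
  rw [Subgroup.mem_sup_of_normal_left] at hx'
  obtain ⟨m, hm, y, hy, hmy⟩ := hx'
  have hmP : m ∈ (P : Subgroup G) := by
    have : m = x * y⁻¹ := by rw [← hmy]; group
    rw [this]
    exact mul_mem hx (inv_mem (hHP hy))
  have hm1 : m ∈ M ⊓ (P : Subgroup G) := ⟨hm, hmP⟩
  rw [hdisj, Subgroup.mem_bot] at hm1
  rw [← hmy, hm1, one_mul]
  exact hy

/-- The coprime case. -/
theorem coprime_case (hp3 : 3 ≤ p) (h : Two p C D) (hC : Subgroup.closure C = ⊤)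
    (hD : Subgroup.closure D = ⊤) (hCne : C.Nonempty) (hDne : D.Nonempty) {M : Subgroup G}
    [M.Normal] (hM : (Nat.card M).Coprime p) (hQ : IsPGroup p (G ⧸ M)) : M = ⊥ := by
  obtain ⟨P⟩ : Nonempty (Sylow p G) := inferInstance
  have hpC : ∀ c ∈ C, IsPGroup p ↥(Subgroup.zpowers c) := fun c hc => h.isPElement hDne hc
  have hpD : ∀ d ∈ D, IsPGroup p ↥(Subgroup.zpowers d) := fun d hd => h.symm.isPElement hCne hd
  have h1 := closure_inter_sylow hM hQ P h.conjC hpC hC
  have h2 := closure_inter_sylow hM hQ P h.conjD hpD hD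
  have h3 := Cfsg.Agent.S2277.result p hp3 P M hM (sup_sylow_eq_top hQ P) (C ∩ (P : Set G))
    (D ∩ (P : Set G)) h1 h2 (fun x _ c hc d hd => h.pair _ (h.conjC x c hc.1) _ hd.1)
  -- `C ⊆ P`
  have h4 : ∀ x ∈ (P : Subgroup G), ∀ m ∈ M, x * m = m * x := by
    intro x hx m hm
    have h5 : ⁅x, m⁆ ∈ ⁅(P : Subgroup G), M⁆ := Subgroup.commutator_mem_commutator hx hm
    rw [h3, Subgroup.mem_bot] at h5
    exact commutatorElement_eq_one_iff_mul_comm.mp h5
  have h5 : (⊤ : Subgroup G) ≤ (P : Subgroup G) := by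
    rw [← hC, Subgroup.closure_le]
    intro c hc
    obtain ⟨m, hm, hmP⟩ := exists_conj_mem hQ P (hpC c hc)
    have h6 := h4 _ hmP m hm
    have h7 : c = m⁻¹ * c * m := by
      have : m⁻¹ * c * m * m = c * m := by
        rw [h6]; group
      exact (mul_right_cancel this).symm
    change c ∈ (P : Subgroup G)
    rw [h7]
    exact hmP
  rw [← Subgroup.card_eq_one]
  obtain ⟨k, hk⟩ := IsPGroup.iff_card.mp P.isPGroup'
  have h6 : Nat.card M ∣ Nat.card (P : Subgroup G) := Subgroup.card_dvd_of_le (le_top.trans h5)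
  rw [hk] at h6
  exact (hM.pow_right k).eq_one_of_dvd h6

end sylow

/-! ### The simple case -/

/-- A nontrivial element generating a `p`-group has a power of order `p`. -/
theorem exists_pow_orderOf [Finite G] [Fact p.Prime] {c : G}
    (hc : IsPGroup p ↥(Subgroup.zpowers c)) (hc1 : c ≠ 1) : ∃ i : ℕ, orderOf (c ^ i) = p := by
  obtain ⟨k, hk⟩ := IsPGroup.iff_card.mp hc
  rw [Nat.card_zpowers] at hk
  have hk0 : k ≠ 0 := by
    rintro rfl
    rw [pow_zero, orderOf_eq_one_iff] at hk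
    exact hc1 hk
  refine ⟨orderOf c / p, orderOf_pow_orderOf_div (orderOf_pos c).ne' ?_⟩
  rw [hk]
  exact dvd_pow_self p hk0

theorem simple_case [Finite G] [Fact p.Prime] {M : Subgroup G} [M.Normal]
    (hZ : Subgroup.centralizer (M : Set G) = ⊥) (row : WRow p M) (h : Two p C D) {c d : G}
    (hc : c ∈ C) (hd : d ∈ D) (hc1 : c ≠ 1) (hd1 : d ≠ 1) : False := by
  obtain ⟨i, hi⟩ := exists_pow_orderOf (h.isPElement ⟨d, hd⟩ hc) hc1
  obtain ⟨j, hj⟩ := exists_pow_orderOf (h.symm.isPElement ⟨c, hc⟩ hd) hd1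
  let φ : G →* MulAut M := MulAut.conjNormal
  have hφ : Function.Injective φ := by
    rw [injective_iff_map_eq_one]
    intro g hg
    have h1 : g ∈ Subgroup.centralizer (M : Set G) := by
      rw [Subgroup.mem_centralizer_iff]
      intro m hm
      have h2 := congrArg (fun f : MulAut M => ((f ⟨m, hm⟩ : M) : G)) hg
      simp only [φ, MulAut.conjNormal_apply, MulAut.one_apply] at h2
      exact (mul_inv_eq_iff_eq_mul.mp h2).symm
    rw [hZ, Subgroup.mem_bot] at h1
    exact h1
  have hpair := row (φ (c ^ i)) (φ (d ^ j)) (by rw [orderOf_injective φ hφ, hi])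
    (by rw [orderOf_injective φ hφ, hj])
  have h1 : WPair p M (c ^ i) (d ^ j) := by
    refine WPair.of_hom φ ?_ hpair
    rintro _ ⟨m, rfl⟩
    refine ⟨m, m.2, ?_⟩
    ext x
    simp [φ, MulAut.conjNormal_apply, MulAut.conj_apply]
  have h2 : WPair p M c d := by
    refine WPair.of_pow (i : ℤ) (j : ℤ) ?_
    rwa [zpow_natCast, zpow_natCast]
  obtain ⟨g, -, hg⟩ := h2
  exact hg (h.pair c hc _ (h.conjD g d hd))

/-! ### The block case -/

section block

variable [Finite G]

theorem commute_of_not_mem {M S : Subgroup G} [M.Normal] (hSM : S ≤ M)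
    (hMS : M ≤ Subgroup.normalizer (S : Set G))
    (hmin : ∀ T : Subgroup G, T ≤ S → T ≠ ⊥ → M ≤ Subgroup.normalizer (T : Set G) → T = S)
    {a : G} (ha : a ∉ Subgroup.normalizer (S : Set G)) {s s' : G} (hs : s ∈ S) (hs' : s' ∈ S) :
    Commute s (a * s' * a⁻¹) := by
  have hMn : M.Normal := inferInstance
  set S' : Subgroup G := S.map (MulAut.conj a).toMonoidHom with hS'
  have hmem : ∀ x, x ∈ S' ↔ a⁻¹ * x * a ∈ S := by
    intro x
    constructor
    · rintro ⟨y, hy, rfl⟩
      simpa [MulAut.conj_apply, mul_assoc] using hy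
    · intro hx
      refine ⟨_, hx, ?_⟩
      simp [MulAut.conj_apply, mul_assoc]
  have hconj : ∀ m ∈ M, ∀ x ∈ S, m * x * m⁻¹ ∈ S := fun m hm x hx =>
    ((Subgroup.mem_normalizer_iff.mp (hMS hm)) x).mp hx
  have hconj' : ∀ m ∈ M, ∀ x ∈ S', m * x * m⁻¹ ∈ S' := by
    intro m hm x hx
    rw [hmem] at hx ⊢
    have h1 : a⁻¹ * m * a ∈ M := by simpa using hMn.conj_mem m hm a⁻¹
    have h2 := hconj _ h1 _ hx
    have h3 : a⁻¹ * (m * x * m⁻¹) * a = a⁻¹ * m * a * (a⁻¹ * x * a) * (a⁻¹ * m * a)⁻¹ := by group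
    rw [h3]
    exact h2
  have hS'M : S' ≤ M := by
    rintro _ ⟨y, hy, rfl⟩
    exact hMn.conj_mem y (hSM hy) a
  have hI : S ⊓ S' = ⊥ := by
    by_contra hne
    have h1 := hmin (S ⊓ S') inf_le_left hne (by
      intro m hm
      refine Subgroup.mem_normalizer_fintype ?_
      intro x hx
      exact ⟨hconj m hm x hx.1, hconj' m hm x hx.2⟩)
    have h2 : S ≤ S' := by rw [← h1]; exact inf_le_right
    have h3 : Nat.card S' = Nat.card S := by
      rw [hS']
      exact Nat.card_congr (S.equivMapOfInjective (MulAut.conj a).toMonoidHom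
        (MulAut.conj a).injective).symm.toEquiv
    have h4 : S = S' := Subgroup.eq_of_le_of_card_ge h2 h3.le
    apply ha
    refine Subgroup.mem_normalizer_fintype ?_
    intro x hx
    have h5 : a * x * a⁻¹ ∈ S' := ⟨x, hx, by simp [MulAut.conj_apply]⟩
    rw [← h4] at h5
    exact h5
  have hy : a * s' * a⁻¹ ∈ S' := ⟨s', hs', by simp [MulAut.conj_apply]⟩
  set y := a * s' * a⁻¹
  have h1 : s * y * s⁻¹ * y⁻¹ ∈ S ⊓ S' := by
    refine ⟨?_, ?_⟩
    · have h2 := hconj y (hS'M hy) s⁻¹ (S.inv_mem hs)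
      have h3 : s * y * s⁻¹ * y⁻¹ = s * (y * s⁻¹ * y⁻¹) := by group
      rw [h3]
      exact S.mul_mem hs h2
    · exact S'.mul_mem (hconj' s (hSM hs) y hy) (S'.inv_mem hy)
  rw [hI, Subgroup.mem_bot] at h1
  have h2 : s * y = y * s := by
    have : s * y * s⁻¹ * y⁻¹ * (y * s) = y * s := by rw [h1, one_mul]
    rw [← this]; group
  exact h2

theorem normal_of_coatom [Fact p.Prime] {M T : Subgroup G} [M.Normal] (hQ : IsPGroup p (G ⧸ M))
    (hMT : M ≤ T) (hT : IsCoatom T) : T.Normal := by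
  have hn : Group.IsNilpotent (G ⧸ M) := hQ.isNilpotent
  set T' : Subgroup (G ⧸ M) := T.map (QuotientGroup.mk' M) with hT'
  have hcomap : T'.comap (QuotientGroup.mk' M) = T := by
    rw [hT', Subgroup.comap_map_eq, QuotientGroup.ker_mk', sup_eq_left.mpr hMT]
  have hco : IsCoatom T' := by
    constructor
    · intro htop
      apply hT.1
      rw [← hcomap, htop, Subgroup.comap_top]
    · intro K hK
      have h1 : T < K.comap (QuotientGroup.mk' M) := by
        rw [← hcomap]
        exact (Subgroup.comap_lt_comap_of_surjective (QuotientGroup.mk'_surjective M)).mpr hK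
      have h2 := hT.2 _ h1
      rw [← Subgroup.map_comap_eq_self_of_surjective (QuotientGroup.mk'_surjective M) K, h2,
        Subgroup.map_top_of_surjective _ (QuotientGroup.mk'_surjective M)]
  have h1 : T'.Normal :=
    Subgroup.NormalizerCondition.normal_of_coatom T' Group.normalizerCondition_of_isNilpotent hco
  rw [← hcomap]
  exact h1.comap _

theorem block_case [Fact p.Prime] (hp3 : 3 ≤ p) (h : Two p C D) (hC : Subgroup.closure C = ⊤)
    (hD : Subgroup.closure D = ⊤) {M S : Subgroup G} [M.Normal] (hSM : S ≤ M) (hS1 : S ≠ ⊥)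
    (hMS : M ≤ Subgroup.normalizer (S : Set G))
    (hmin : ∀ T : Subgroup G, T ≤ S → T ≠ ⊥ → M ≤ Subgroup.normalizer (T : Set G) → T = S)
    (hQ : IsPGroup p (G ⧸ M)) (hne : Subgroup.normalizer (S : Set G) ≠ ⊤) :
    ∃ B : Subgroup G, B ≤ M ∧ M ≤ Subgroup.normalizer (B : Set G) ∧ B ≠ ⊥ ∧
      Nat.card (Sylow p B) = 1 := by
  classical
  have hMn : M.Normal := inferInstance
  obtain ⟨T, hTco, hST⟩ := (eq_top_or_exists_le_coatom (Subgroup.normalizer (S : Set G))).resolve_left hne
  have hMT : M ≤ T := hMS.trans hST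
  have hTn : T.Normal := normal_of_coatom hQ hMT hTco
  have hout : ∀ X : Set G, Subgroup.closure X = ⊤ → ∃ x ∈ X, x ∉ T := by
    intro X hX
    by_contra hcon
    push Not at hcon
    apply hTco.1
    rw [eq_top_iff, ← hX, Subgroup.closure_le]
    exact hcon
  obtain ⟨c, hcC, hcT⟩ := hout C hC
  obtain ⟨d, hdD, hdT⟩ := hout D hD
  have htop : T ⊔ Subgroup.zpowers c = ⊤ := by
    refine hTco.2 _ (lt_of_le_of_ne le_sup_left ?_)
    intro heq
    apply hcT
    rw [heq]
    exact (le_sup_right : Subgroup.zpowers c ≤ T ⊔ Subgroup.zpowers c) (Subgroup.mem_zpowers c)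
  have hdtop : d ∈ T ⊔ Subgroup.zpowers c := by rw [htop]; exact Subgroup.mem_top d
  rw [Subgroup.mem_sup_of_normal_left] at hdtop
  obtain ⟨t, ht, z, hz, htz⟩ := hdtop
  obtain ⟨i, rfl⟩ := Subgroup.mem_zpowers_iff.mp hz
  set c' : G := c ^ i with hc'
  have hc'T : c' ∉ T := by
    intro hcon
    apply hdT
    rw [← htz]
    exact mul_mem ht hcon
  have hc'2 : c' ^ 2 ∉ T := by
    intro hcon
    apply hc'T
    have h1 : IsPGroup p ↥(Subgroup.zpowers c) := h.isPElement ⟨d, hdD⟩ hcC
    have h2 : IsPGroup p ↥(Subgroup.zpowers c') := h1.to_le (by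
      rw [Subgroup.zpowers_le]; exact Subgroup.zpow_mem_zpowers c i)
    obtain ⟨k, hk⟩ := IsPGroup.iff_card.mp h2
    rw [Nat.card_zpowers] at hk
    have hodd : Odd (orderOf c') := by
      rw [hk]
      exact (((Fact.out : p.Prime).eq_two_or_odd').resolve_left (by omega)).pow
    obtain ⟨m, hm⟩ := hodd
    have h3 : c' = (c' ^ 2) ^ (m + 1) := by
      rw [← pow_mul]
      have : 2 * (m + 1) = orderOf c' + 1 := by rw [hm]; ring
      rw [this, pow_succ, pow_orderOf_eq_one, one_mul]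
    rw [h3]
    exact pow_mem hcon _
  have ht₁ : c'⁻¹ * d ∈ T := by
    rw [← htz]
    have : c'⁻¹ * (t * c') = c'⁻¹ * t * c'⁻¹⁻¹ := by group
    rw [this]
    exact hTn.conj_mem t ht _
  have ht₂ : (c' ^ 2)⁻¹ * d ^ 2 ∈ T := by
    have : (c' ^ 2)⁻¹ * d ^ 2 = c'⁻¹ * (c'⁻¹ * d) * c'⁻¹⁻¹ * (c'⁻¹ * d) := by
      rw [pow_two, pow_two]; group
    rw [this]
    exact mul_mem (hTn.conj_mem _ ht₁ _) ht₁
  -- the block
  let X : Set G := {x | ∃ t ∈ T, ∃ s ∈ S, x = t * s * t⁻¹}
  let B : Subgroup G := Subgroup.closure X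
  have hTB : T ≤ Subgroup.normalizer (B : Set G) := by
    intro u hu
    refine Subgroup.mem_normalizer_fintype ?_
    intro x hx
    have hx' : x ∈ Subgroup.closure X := hx
    change u * x * u⁻¹ ∈ B
    have h1 : Subgroup.closure X ≤ B.comap (MulAut.conj u).toMonoidHom := by
      rw [Subgroup.closure_le]
      rintro _ ⟨t, ht, s, hs, rfl⟩
      change MulAut.conj u (t * s * t⁻¹) ∈ B
      rw [MulAut.conj_apply]
      refine Subgroup.subset_closure ⟨u * t, mul_mem hu ht, s, hs, by group⟩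
    exact h1 hx'
  have hBM : B ≤ M := by
    rw [Subgroup.closure_le]
    rintro _ ⟨t, -, s, hs, rfl⟩
    exact hMn.conj_mem s (hSM hs) t
  have hSB : S ≤ B := by
    intro s hs
    exact Subgroup.subset_closure ⟨1, one_mem T, s, hs, by simp⟩
  have hcomm : ∀ g : G, g ∉ T → ∀ x ∈ B, ∀ y ∈ B, Commute x (g * y * g⁻¹) := by
    intro g hg
    have h0 : ∀ x ∈ X, ∀ y ∈ X, Commute x (g * y * g⁻¹) := by
      rintro _ ⟨t, ht, s, hs, rfl⟩ _ ⟨t', ht', s', hs', rfl⟩
      have ha : t⁻¹ * g * t' ∉ Subgroup.normalizer (S : Set G) := by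
        intro hcon
        apply hg
        have h1 := hST hcon
        have h2 : g = t * (t⁻¹ * g * t') * t'⁻¹ := by group
        rw [h2]
        exact mul_mem (mul_mem ht h1) (inv_mem ht')
      have h1 := commute_of_not_mem hSM hMS hmin ha hs hs'
      have h2 := h1.map (MulAut.conj t).toMonoidHom
      simp only [MulEquiv.toMonoidHom_eq_coe, MonoidHom.coe_coe, MulAut.conj_apply] at h2
      have h3 : t * (t⁻¹ * g * t' * s' * (t⁻¹ * g * t')⁻¹) * t⁻¹ = g * (t' * s' * t'⁻¹) * g⁻¹ := by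
        group
      rwa [h3] at h2
    have h1 : ∀ x ∈ B, ∀ y ∈ X, Commute x (g * y * g⁻¹) := by
      intro x hx y hy
      have h2 : B ≤ Subgroup.centralizer ({g * y * g⁻¹} : Set G) := by
        rw [Subgroup.closure_le]
        intro x hx
        rw [SetLike.mem_coe, Subgroup.mem_centralizer_singleton_iff]
        exact (h0 x hx y hy).eq
      have h3 := h2 hx
      rw [Subgroup.mem_centralizer_singleton_iff] at h3
      exact h3
    intro x hx y hy
    have h2 : B ≤ (Subgroup.centralizer ({x} : Set G)).comap (MulAut.conj g).toMonoidHom := by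
      rw [Subgroup.closure_le]
      intro y hy
      change MulAut.conj g y ∈ Subgroup.centralizer ({x} : Set G)
      rw [MulAut.conj_apply, Subgroup.mem_centralizer_singleton_iff]
      exact (h1 x hx y hy).eq.symm
    have h3 := h2 hy
    change MulAut.conj g y ∈ Subgroup.centralizer ({x} : Set G) at h3
    rw [MulAut.conj_apply, Subgroup.mem_centralizer_singleton_iff] at h3
    exact h3.symm
  refine ⟨B, hBM, hMT.trans hTB, fun hB => hS1 (le_bot_iff.mp (hB ▸ hSB)), ?_⟩
  refine Block.card_sylow_block (M := M) hBM (hMT.trans hTB) (c := c') (d := d) (hTB ht₁)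
    (hTB ht₂) (hcomm c' hc'T) (hcomm _ hc'2) ?_
  intro n _
  refine (h.pair c hcC _ (h.conjD n d hdD)).to_le ?_
  rw [Subgroup.closure_le]
  rintro x (rfl | rfl)
  · exact zpow_mem (Subgroup.subset_closure (by simp)) _
  · exact Subgroup.subset_closure (by simp)

/-- Subnormal subgroups have non-unique Sylow subgroups if the cores are trivial. -/
theorem card_sylow_ne_one [Fact p.Prime] (hp : pCore p G = ⊥) (hp' : pPrimeCore p G = ⊥)
    {M B : Subgroup G} [hM : M.Normal] (hBM : B ≤ M) (hMB : M ≤ Subgroup.normalizer (B : Set G))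
    (hB : B ≠ ⊥) : Nat.card (Sylow p B) ≠ 1 := by
  intro hcard
  obtain ⟨X⟩ : Nonempty (Sylow p B) := inferInstance
  have hBn : (B.subgroupOf M).Normal := by
    constructor
    rintro ⟨x, hx⟩ hxB ⟨m, hm⟩
    exact ((Subgroup.mem_normalizer_iff.mp (hMB hm)) x).mp hxB
  have hcM : pCore p M = ⊥ := by
    have h1 := Cfsg.Agent.Lib.Cores.map_subtype_pCore p hM
    rw [hp, inf_bot_eq, Subgroup.map_eq_bot_iff_of_injective _ M.subtype_injective] at h1
    exact h1
  have hcM' : pPrimeCore p M = ⊥ := by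
    have h1 := Cfsg.Agent.Lib.Cores.map_subtype_pPrimeCore p hM
    rw [hp', inf_bot_eq, Subgroup.map_eq_bot_iff_of_injective _ M.subtype_injective] at h1
    exact h1
  have hcB : pCore p (B.subgroupOf M) = ⊥ := by
    have h1 := Cfsg.Agent.Lib.Cores.map_subtype_pCore p hBn
    rw [hcM, inf_bot_eq, Subgroup.map_eq_bot_iff_of_injective _ (Subgroup.subtype_injective _)] at h1
    exact h1
  have e : B.subgroupOf M ≃* B := Subgroup.subgroupOfEquivOfLe hBM
  have hcB2 : pCore p B = ⊥ := by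
    rw [← Cfsg.Agent.Lib.Cores.map_equiv_pCore e p, hcB, Subgroup.map_bot]
  have hXn : (X : Subgroup B).Normal := by
    have : Subsingleton (Sylow p B) := (Nat.card_eq_one_iff_unique.mp hcard).1
    exact Sylow.normal_of_subsingleton X
  have hX : (X : Subgroup B) = ⊥ := by
    have h1 := Cfsg.Agent.Lib.Cores.le_pCore hXn X.isPGroup'
    rw [hcB2] at h1
    exact le_bot_iff.mp h1
  have hpB : ¬ p ∣ Nat.card B := by
    have h1 := X.not_dvd_index
    rwa [hX, Subgroup.index_bot] at h1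
  have h2 : (B.subgroupOf M) ≤ pPrimeCore p M := by
    refine Cfsg.Agent.Lib.Cores.le_pPrimeCore hBn ?_
    rw [Nat.card_congr e.toEquiv]
    exact ((Nat.Prime.coprime_iff_not_dvd Fact.out).mpr hpB).symm
  rw [hcM', le_bot_iff, Subgroup.subgroupOf_eq_bot] at h2
  apply hB
  rw [← inf_eq_left.mpr hBM]
  exact disjoint_iff.mp h2

end block

/-! ### The induction -/

theorem isPGroup_of_card (hp3 : 3 ≤ p) [hp : Fact p.Prime]
    (row : ∀ (K : Type u) [Group K] [Finite K] [IsSimpleGroup K], ¬ IsMulCommutative K → WRow p K) :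
    ∀ (n : ℕ) (G : Type u) [Group G] [Finite G] (C D : Set G), Nat.card G = n → Two p C D →
      Subgroup.closure C = ⊤ → Subgroup.closure D = ⊤ → IsPGroup p G := by
  intro n
  induction n using Nat.strong_induction_on with
  | _ n ih =>
  intro G _ _ C D hn h hC hD
  by_cases hnt : Nontrivial G
  swap
  · rw [not_nontrivial_iff_subsingleton] at hnt
    exact IsPGroup.of_card (n := 0) (by rw [pow_zero]; exact Nat.card_eq_one_iff_unique.mpr ⟨hnt, ⟨1⟩⟩)
  have hne : ∀ X : Set G, Subgroup.closure X = ⊤ → ∃ x ∈ X, x ≠ 1 := by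
    intro X hX
    by_contra hcon
    push Not at hcon
    apply (bot_ne_top : (⊥ : Subgroup G) ≠ ⊤)
    rw [eq_comm, eq_bot_iff, ← hX, Subgroup.closure_le]
    exact hcon
  obtain ⟨c, hc, hc1⟩ := hne C hC
  obtain ⟨d, hd, hd1⟩ := hne D hD
  -- quotients
  have hquot : ∀ N : Subgroup G, ∀ [N.Normal], N ≠ ⊥ → IsPGroup p (G ⧸ N) := by
    intro N _ hN
    have hlt : Nat.card (G ⧸ N) < n := by
      rw [← hn, Subgroup.card_eq_card_quotient_mul_card_subgroup N]
      have h1 : 1 < Nat.card N := Subgroup.one_lt_card_iff_ne_bot N |>.mpr hN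
      have h2 : 0 < Nat.card (G ⧸ N) := Nat.card_pos
      nlinarith
    refine ih _ hlt (G ⧸ N) (QuotientGroup.mk' N '' C) (QuotientGroup.mk' N '' D) rfl
      (h.map _ (QuotientGroup.mk'_surjective N)) ?_ ?_
    · rw [← MonoidHom.map_closure, hC,
        Subgroup.map_top_of_surjective _ (QuotientGroup.mk'_surjective N)]
    · rw [← MonoidHom.map_closure, hD,
        Subgroup.map_top_of_surjective _ (QuotientGroup.mk'_surjective N)]
  by_contra hG
  have hcore : pCore p G = ⊥ := by
    by_contra hne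
    exact hG (isPGroup_of_quotient (Cfsg.Agent.Lib.Cores.pCore_isPGroup p) (hquot _ hne))
  have hcore' : pPrimeCore p G = ⊥ := by
    by_contra hne
    exact hne (coprime_case hp3 h hC hD ⟨c, hc⟩ ⟨d, hd⟩
      (Cfsg.Agent.Lib.Cores.pPrimeCore_coprime p) (hquot _ hne))
  obtain ⟨M, hMn, hM1, hMmin⟩ := exists_minimal_normal (G := G)
  obtain ⟨S, hSM, hS1, hMS, hSmin⟩ := exists_minimal_normalized M hM1
  by_cases hS : Subgroup.normalizer (S : Set G) = ⊤
  · -- `S = M` is simple
    have hSn : S.Normal := Subgroup.normalizer_eq_top_iff.mp hS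
    have hSeq : S = M := hMmin S hSn hSM hS1
    subst hSeq
    have hntS : Nontrivial S := (Subgroup.nontrivial_iff_ne_bot S).mpr hS1
    have hsimple : IsSimpleGroup S := by
      refine ⟨fun H hH => ?_⟩
      by_cases hb : H = ⊥
      · exact Or.inl hb
      · right
        have h1 := hSmin (H.map S.subtype) (Subgroup.map_subtype_le H)
          (by rw [Ne, Subgroup.map_eq_bot_iff_of_injective _ S.subtype_injective]; exact hb) (by
            intro m hm
            refine Subgroup.mem_normalizer_fintype ?_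
            rintro _ ⟨x, hx, rfl⟩
            exact ⟨⟨m, hm⟩ * x * ⟨m, hm⟩⁻¹, hH.conj_mem x hx ⟨m, hm⟩, by simp⟩)
        rw [eq_top_iff]
        intro x _
        have h2 : (x : G) ∈ H.map S.subtype := by rw [h1]; exact x.2
        obtain ⟨y, hy, hyx⟩ := h2
        have : y = x := Subtype.ext hyx
        rwa [← this]
    have hSp : ¬ IsPGroup p S := by
      intro hcon
      have := Cfsg.Agent.Lib.Cores.le_pCore hSn hcon
      rw [hcore] at this
      exact hS1 (le_bot_iff.mp this)
    have hSp' : p ∣ Nat.card S := by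
      by_contra hcon
      have := Cfsg.Agent.Lib.Cores.le_pPrimeCore (p := p) hSn
        ((Nat.Prime.coprime_iff_not_dvd hp.out).mpr hcon).symm
      rw [hcore'] at this
      exact hS1 (le_bot_iff.mp this)
    have hna : ¬ IsMulCommutative S := by
      intro hcomm
      obtain ⟨X⟩ : Nonempty (Sylow p S) := inferInstance
      have hXn : (X : Subgroup S).Normal := by
        constructor
        intro x hx y
        have : y * x * y⁻¹ = x := by
          rw [hcomm.is_comm.comm y x, mul_inv_cancel_right]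
        rwa [this]
      rcases hXn.eq_bot_or_eq_top with h0 | h0
      · apply X.not_dvd_index
        rwa [h0, Subgroup.index_bot]
      · apply hSp
        have := X.isPGroup'
        rw [h0] at this
        exact this.of_equiv Subgroup.topEquiv
    have hZ : Subgroup.centralizer (S : Set G) = ⊥ := by
      by_contra hZ
      have hZn : (Subgroup.centralizer (S : Set G)).Normal := inferInstance
      have h1 := hquot _ hZ
      apply hSp
      refine h1.of_injective ((QuotientGroup.mk' (Subgroup.centralizer (S : Set G))).comp S.subtype) ?_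
      rw [injective_iff_map_eq_one]
      intro x hx
      have h2 : (x : G) ∈ Subgroup.centralizer (S : Set G) :=
        (QuotientGroup.eq_one_iff (x : G)).mp hx
      have h3 : x ∈ Subgroup.center S := by
        rw [Subgroup.mem_center_iff]
        intro y
        apply Subtype.ext
        exact (Subgroup.mem_centralizer_iff.mp h2) y y.2
      rw [center_eq_bot_of_simple hna, Subgroup.mem_bot] at h3
      exact h3
    exact simple_case hZ (row S hna) h hc hd hc1 hd1
  · obtain ⟨B, hBM, hMB, hB1, hB⟩ := block_case hp3 h hC hD hSM hS1 hMS hSmin (hquot M hM1) hS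
    exact card_sylow_ne_one hcore hcore' hBM hMB hB1 hB

/-- S3827 from the weak rows. -/
theorem s3827_of {p : ℕ} [Fact p.Prime] (hp3 : 3 ≤ p)
    (row : ∀ (K : Type u) [Group K] [Finite K] [IsSimpleGroup K], ¬ IsMulCommutative K → WRow p K)
    {G : Type u} [Group G] [Finite G] (C D : Set G) (hC : ∀ g : G, ∀ c ∈ C, g * c * g⁻¹ ∈ C)
    (hD : ∀ g : G, ∀ c ∈ D, g * c * g⁻¹ ∈ D) (hCD : Subgroup.closure C = Subgroup.closure D)
    (h : ∀ c ∈ C, ∀ d ∈ D, IsPGroup p ↥(Subgroup.closure ({c, d} : Set G))) :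
    (Subgroup.closure C).Normal ∧ IsPGroup p ↥(Subgroup.closure C) := by
  constructor
  · constructor
    intro x hx g
    have h1 : Subgroup.closure C ≤ (Subgroup.closure C).comap (MulAut.conj g).toMonoidHom := by
      rw [Subgroup.closure_le]
      intro c hc
      change MulAut.conj g c ∈ Subgroup.closure C
      rw [MulAut.conj_apply]
      exact Subgroup.subset_closure (hC g c hc)
    exact h1 hx
  · set N := Subgroup.closure C with hN
    have hCN : C ⊆ N := Subgroup.subset_closure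
    have hDN : D ⊆ N := by rw [hCD]; exact Subgroup.subset_closure
    have hcl : ∀ X : Set G, X ⊆ N → Subgroup.closure X = N →
        Subgroup.closure (((↑) : N → G) ⁻¹' X) = ⊤ := by
      intro X hX hXN
      have h1 : (Subgroup.closure (((↑) : N → G) ⁻¹' X)).map N.subtype = N := by
        rw [MonoidHom.map_closure]
        have h2 : N.subtype '' (((↑) : N → G) ⁻¹' X) = X := by
          ext x
          constructor
          · rintro ⟨y, hy, rfl⟩
            exact hy
          · intro hx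
            exact ⟨⟨x, hX hx⟩, hx, rfl⟩
        rw [h2, hXN]
      rw [eq_top_iff]
      intro x _
      have h2 : (x : G) ∈ (Subgroup.closure (((↑) : N → G) ⁻¹' X)).map N.subtype := by
        rw [h1]; exact x.2
      obtain ⟨y, hy, hyx⟩ := h2
      have : y = x := Subtype.ext hyx
      rwa [← this]
    refine isPGroup_of_card hp3 row _ N (((↑) : N → G) ⁻¹' C) (((↑) : N → G) ⁻¹' D) rfl ?_
      (hcl C hCN rfl) (hcl D hDN hCD.symm)
    refine ⟨fun g c hc => hC g c hc, fun g c hc => hD g c hc, fun c hc d hd => ?_⟩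
    have h1 := h c hc d hd
    have h2 : (Subgroup.closure ({c, d} : Set N)).map N.subtype
        = Subgroup.closure ({(c : G), (d : G)} : Set G) := closure_pair_map _ _ _
    rw [← h2] at h1
    exact h1.of_equiv (Subgroup.equivMapOfInjective _ N.subtype N.subtype_injective).symm

end Cfsg.Agent.H533.T5.Red
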